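import Mathlib
import Cfsg.Agent.Helper99.Pron.Defs

/-!
# helper45, block BL3 of helper99's S2225/S2226 (#15281): the semidihedral Sylow `2`-subgroup of
`GL_2(q)`, `q ≡ 3 (mod 4)` — definitions and basic algebra

`eM u v = [[u, -v], [v, u]]` (the field `E = F(i)` inside `M_2(F)`), `phiM = diag(1, -1)`
(`phiM * eM u v = eM u (-v) * phiM`), `Esub` = the elements of `GL_2(F)` of the form `eM u v`,
`Csub` = its elements of `2`-power order, `Psub = Csub ∪ phi * Csub`.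
-/

set_option autoImplicit false

namespace Cfsg.Agent.Helper45.Pron

open Matrix Cfsg.Agent.Helper99.Pron

variable {F : Type*} [Field F]

/-- the matrix `[[u, -v], [v, u]]` -/
def eM (u v : F) : Matrix (Fin 2) (Fin 2) F := !![u, -v; v, u]

/-- `diag(1, -1)` -/
def phiM : Matrix (Fin 2) (Fin 2) F := !![1, 0; 0, -1]

theorem eM_mul (u v u' v' : F) : eM u v * eM u' v' = eM (u * u' - v * v') (u * v' + v * u') := by
  ext i j
  fin_cases i <;> fin_cases j <;> simp [eM, Matrix.mul_apply, Fin.sum_univ_two] <;> ring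

theorem eM_one_zero : eM (1 : F) 0 = 1 := by
  ext i j
  fin_cases i <;> fin_cases j <;> simp [eM]

theorem eM_comm (u v u' v' : F) : eM u v * eM u' v' = eM u' v' * eM u v := by
  rw [eM_mul, eM_mul]
  congr 1 <;> ring

theorem det_eM (u v : F) : (eM u v).det = u ^ 2 + v ^ 2 := by
  rw [Matrix.det_fin_two]
  simp [eM]
  ring

theorem eM_inj {u v u' v' : F} (h : eM u v = eM u' v') : u = u' ∧ v = v' := by
  have h00 := congrFun (congrFun h 0) 0
  have h10 := congrFun (congrFun h 1) 0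
  simp [eM] at h00 h10
  exact ⟨h00, h10⟩

theorem smul_one_eq_eM (l : F) : l • (1 : Matrix (Fin 2) (Fin 2) F) = eM l 0 := by
  ext i j
  fin_cases i <;> fin_cases j <;> simp [eM]

theorem neg_one_eq_eM : (-1 : Matrix (Fin 2) (Fin 2) F) = eM (-1) 0 := by
  ext i j
  fin_cases i <;> fin_cases j <;> simp [eM]

theorem eM_sub_one (u v : F) : eM u v - 1 = eM (u - 1) v := by
  ext i j
  fin_cases i <;> fin_cases j <;> simp [eM]

theorem smul_eM (l u v : F) : l • eM u v = eM (l * u) (l * v) := by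
  ext i j
  fin_cases i <;> fin_cases j <;> simp [eM]

theorem phiM_mul_phiM : (phiM : Matrix (Fin 2) (Fin 2) F) * phiM = 1 := by
  ext i j
  fin_cases i <;> fin_cases j <;> simp [phiM, Matrix.mul_apply, Fin.sum_univ_two]

theorem phiM_mul_eM (u v : F) : phiM * eM u v = eM u (-v) * phiM := by
  ext i j
  fin_cases i <;> fin_cases j <;> simp [phiM, eM, Matrix.mul_apply, Fin.sum_univ_two]

theorem eM_mul_phiM (u v : F) : eM u v * phiM = phiM * eM u (-v) := by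
  rw [phiM_mul_eM, neg_neg]

theorem det_phiM : (phiM : Matrix (Fin 2) (Fin 2) F).det = -1 := by
  rw [Matrix.det_fin_two]
  simp [phiM]

/-- `2`-power order -/
def TwoPow {M : Type*} [Monoid M] (a : M) : Prop := ∃ k : ℕ, a ^ (2 ^ k) = 1

theorem TwoPow.mul {M : Type*} [Monoid M] {a b : M} (hab : Commute a b) (ha : TwoPow a)
    (hb : TwoPow b) : TwoPow (a * b) := by
  obtain ⟨k, hk⟩ := ha
  obtain ⟨k', hk'⟩ := hb
  refine ⟨k + k', ?_⟩
  rw [hab.mul_pow, pow_add, pow_mul, hk, one_pow, mul_comm (2 ^ k) (2 ^ k'), pow_mul, hk', one_pow,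
    one_mul]

theorem TwoPow.inv {G : Type*} [Group G] {a : G} (ha : TwoPow a) : TwoPow a⁻¹ := by
  obtain ⟨k, hk⟩ := ha
  exact ⟨k, by rw [inv_pow, hk, inv_one]⟩

theorem TwoPow.conj {G : Type*} [Group G] {a : G} (ha : TwoPow a) (x : G) : TwoPow (x * a * x⁻¹) := by
  obtain ⟨k, hk⟩ := ha
  exact ⟨k, by rw [conj_pow, hk, mul_one, mul_inv_cancel]⟩

theorem TwoPow.pow {M : Type*} [Monoid M] {a : M} (ha : TwoPow a) (n : ℕ) : TwoPow (a ^ n) := by
  obtain ⟨k, hk⟩ := ha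
  exact ⟨k, by rw [← pow_mul, mul_comm, pow_mul, hk, one_pow]⟩

theorem TwoPow.zpow {G : Type*} [Group G] {a : G} (ha : TwoPow a) (n : ℤ) : TwoPow (a ^ n) := by
  obtain ⟨k, hk⟩ := ha
  exact ⟨k, by rw [← zpow_natCast, ← _root_.zpow_mul, mul_comm, _root_.zpow_mul, zpow_natCast, hk, _root_.one_zpow]⟩

theorem TwoPow.one {M : Type*} [Monoid M] : TwoPow (1 : M) := ⟨0, by simp⟩

/-- the elements of `GL_2(F)` of the form `eM u v` -/
def Esub : Subgroup (GL (Fin 2) F) where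
  carrier := {g | ∃ u v : F, (g : Matrix (Fin 2) (Fin 2) F) = eM u v}
  one_mem' := ⟨1, 0, by rw [eM_one_zero]; rfl⟩
  mul_mem' := by
    rintro a b ⟨u, v, ha⟩ ⟨u', v', hb⟩
    exact ⟨_, _, by rw [Units.val_mul, ha, hb, eM_mul]⟩
  inv_mem' := by
    rintro a ⟨u, v, ha⟩
    have hdet : u ^ 2 + v ^ 2 ≠ 0 := by
      rw [← det_eM, ← ha]
      exact ((Matrix.isUnit_iff_isUnit_det _).1 a.isUnit).ne_zero
    refine ⟨u / (u ^ 2 + v ^ 2), -v / (u ^ 2 + v ^ 2), ?_⟩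
    have h1 : (a : Matrix (Fin 2) (Fin 2) F) * eM (u / (u ^ 2 + v ^ 2)) (-v / (u ^ 2 + v ^ 2)) = 1 := by
      rw [ha, eM_mul, ← eM_one_zero]
      congr 1
      · field_simp
        ring
      · field_simp
        ring
    calc ((a⁻¹ : GL (Fin 2) F) : Matrix (Fin 2) (Fin 2) F)
        = ((a⁻¹ : GL (Fin 2) F) : Matrix (Fin 2) (Fin 2) F) *
            ((a : Matrix (Fin 2) (Fin 2) F) * eM (u / (u ^ 2 + v ^ 2)) (-v / (u ^ 2 + v ^ 2))) := by
          rw [h1, mul_one]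
      _ = eM (u / (u ^ 2 + v ^ 2)) (-v / (u ^ 2 + v ^ 2)) := by
          rw [← mul_assoc, Units.inv_mul, one_mul]

theorem mem_Esub {g : GL (Fin 2) F} :
    g ∈ (Esub : Subgroup (GL (Fin 2) F)) ↔ ∃ u v : F, (g : Matrix (Fin 2) (Fin 2) F) = eM u v := Iff.rfl

theorem Esub_comm {g h : GL (Fin 2) F} (hg : g ∈ (Esub : Subgroup (GL (Fin 2) F)))
    (hh : h ∈ (Esub : Subgroup (GL (Fin 2) F))) : g * h = h * g := by
  obtain ⟨u, v, hg⟩ := hg
  obtain ⟨u', v', hh⟩ := hh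
  apply Units.ext
  rw [Units.val_mul, Units.val_mul, hg, hh, eM_comm]

/-- `diag(1, -1)` in `GL_2(F)` -/
def phi : GL (Fin 2) F := ⟨phiM, phiM, phiM_mul_phiM, phiM_mul_phiM⟩

@[simp] theorem phi_val : ((phi : GL (Fin 2) F) : Matrix (Fin 2) (Fin 2) F) = phiM := rfl

theorem phi_mul_phi : (phi : GL (Fin 2) F) * phi = 1 := Units.ext phiM_mul_phiM

theorem phi_inv : (phi : GL (Fin 2) F)⁻¹ = phi := inv_eq_of_mul_eq_one_right phi_mul_phi

/-- `J₀ = [[0, -1], [1, 0]]` in `GL_2(F)` -/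
def J0 : GL (Fin 2) F :=
  ⟨eM 0 1, eM 0 (-1), by rw [eM_mul, ← eM_one_zero]; congr 1 <;> ring,
    by rw [eM_mul, ← eM_one_zero]; congr 1 <;> ring⟩

@[simp] theorem J0_val : ((J0 : GL (Fin 2) F) : Matrix (Fin 2) (Fin 2) F) = eM 0 1 := rfl

theorem J0_inv_val : (((J0 : GL (Fin 2) F)⁻¹ : GL (Fin 2) F) : Matrix (Fin 2) (Fin 2) F) = eM 0 (-1) := rfl

theorem J0_mem_Esub : (J0 : GL (Fin 2) F) ∈ (Esub : Subgroup (GL (Fin 2) F)) := ⟨0, 1, rfl⟩

theorem J0_mul_J0_val :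
    ((J0 : GL (Fin 2) F) : Matrix (Fin 2) (Fin 2) F) * ((J0 : GL (Fin 2) F) : Matrix (Fin 2) (Fin 2) F) = -1 := by
  rw [J0_val, eM_mul, neg_one_eq_eM]
  congr 1 <;> ring

theorem J0_pow_four : (J0 : GL (Fin 2) F) ^ 4 = 1 := by
  apply Units.ext
  rw [Units.val_pow_eq_pow_val, show (4 : ℕ) = 2 + 2 from rfl, pow_add, pow_two, J0_mul_J0_val]
  simp

theorem phi_conj_val (g : GL (Fin 2) F) (u v : F) (hg : (g : Matrix (Fin 2) (Fin 2) F) = eM u v) :
    ((phi * g * phi⁻¹ : GL (Fin 2) F) : Matrix (Fin 2) (Fin 2) F) = eM u (-v) := by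
  rw [phi_inv, Units.val_mul, Units.val_mul, phi_val, hg, phiM_mul_eM, mul_assoc, phiM_mul_phiM, mul_one]

theorem phi_conj_mem_Esub {g : GL (Fin 2) F} (hg : g ∈ (Esub : Subgroup (GL (Fin 2) F))) :
    phi * g * phi⁻¹ ∈ (Esub : Subgroup (GL (Fin 2) F)) := by
  obtain ⟨u, v, hg⟩ := hg
  exact ⟨u, -v, phi_conj_val g u v hg⟩

/-- the elements of `2`-power order of `Esub` -/
def Csub : Subgroup (GL (Fin 2) F) where
  carrier := {g | g ∈ (Esub : Subgroup (GL (Fin 2) F)) ∧ TwoPow g}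
  one_mem' := ⟨Subgroup.one_mem _, TwoPow.one⟩
  mul_mem' := by
    rintro a b ⟨ha, ha2⟩ ⟨hb, hb2⟩
    exact ⟨Subgroup.mul_mem _ ha hb, TwoPow.mul (Esub_comm ha hb) ha2 hb2⟩
  inv_mem' := by
    rintro a ⟨ha, ha2⟩
    exact ⟨Subgroup.inv_mem _ ha, ha2.inv⟩

theorem mem_Csub {g : GL (Fin 2) F} :
    g ∈ (Csub : Subgroup (GL (Fin 2) F)) ↔ g ∈ (Esub : Subgroup (GL (Fin 2) F)) ∧ TwoPow g := Iff.rfl

theorem Csub_le_Esub : (Csub : Subgroup (GL (Fin 2) F)) ≤ Esub := fun _ h => h.1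

theorem phi_conj_mem_Csub {g : GL (Fin 2) F} (hg : g ∈ (Csub : Subgroup (GL (Fin 2) F))) :
    phi * g * phi⁻¹ ∈ (Csub : Subgroup (GL (Fin 2) F)) :=
  ⟨phi_conj_mem_Esub hg.1, hg.2.conj phi⟩

theorem J0_mem_Csub : (J0 : GL (Fin 2) F) ∈ (Csub : Subgroup (GL (Fin 2) F)) :=
  ⟨J0_mem_Esub, 2, J0_pow_four⟩

/-- `Csub ∪ phi * Csub` -/
def Psub : Subgroup (GL (Fin 2) F) where
  carrier := {g | g ∈ (Csub : Subgroup (GL (Fin 2) F)) ∨ phi * g ∈ (Csub : Subgroup (GL (Fin 2) F))}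
  one_mem' := Or.inl (Subgroup.one_mem _)
  mul_mem' := by
    rintro a b (ha | ha) (hb | hb)
    · exact Or.inl (Subgroup.mul_mem _ ha hb)
    · right
      have h := Subgroup.mul_mem _ (phi_conj_mem_Csub ha) hb
      have e : phi * a * phi⁻¹ * (phi * b) = phi * (a * b) := by group
      rw [e] at h
      exact h
    · right
      have h := Subgroup.mul_mem _ ha hb
      have e : phi * a * b = phi * (a * b) := by group
      rw [e] at h
      exact h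
    · left
      have h := Subgroup.mul_mem _ (phi_conj_mem_Csub ha) hb
      have e : phi * (phi * a) * phi⁻¹ * (phi * b) = a * b := by
        have h1 : phi * (phi * a) * phi⁻¹ * (phi * b) = (phi * phi) * a * b := by group
        rw [h1, phi_mul_phi, one_mul]
      rw [e] at h
      exact h
  inv_mem' := by
    rintro a (ha | ha)
    · exact Or.inl (Subgroup.inv_mem _ ha)
    · right
      have h := phi_conj_mem_Csub (Subgroup.inv_mem _ ha)
      have e : phi * (phi * a)⁻¹ * phi⁻¹ = phi * a⁻¹ := by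
        have h1 : phi * (phi * a)⁻¹ * phi⁻¹ = phi * a⁻¹ * (phi⁻¹ * phi⁻¹) := by group
        have h2 : (phi : GL (Fin 2) F)⁻¹ * phi⁻¹ = 1 := by rw [phi_inv, phi_mul_phi]
        rw [h1, h2, mul_one]
      rw [e] at h
      exact h

theorem mem_Psub {g : GL (Fin 2) F} :
    g ∈ (Psub : Subgroup (GL (Fin 2) F)) ↔
      g ∈ (Csub : Subgroup (GL (Fin 2) F)) ∨ phi * g ∈ (Csub : Subgroup (GL (Fin 2) F)) := Iff.rfl

theorem Csub_le_Psub : (Csub : Subgroup (GL (Fin 2) F)) ≤ Psub := fun _ h => Or.inl h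

theorem phi_mem_Psub : (phi : GL (Fin 2) F) ∈ (Psub : Subgroup (GL (Fin 2) F)) := by
  right
  rw [phi_mul_phi]
  exact Subgroup.one_mem _

theorem phi_mul_mem_Psub {c : GL (Fin 2) F} (hc : c ∈ (Csub : Subgroup (GL (Fin 2) F))) :
    phi * c ∈ (Psub : Subgroup (GL (Fin 2) F)) :=
  Subgroup.mul_mem _ phi_mem_Psub (Csub_le_Psub hc)

theorem J0_mem_Psub : (J0 : GL (Fin 2) F) ∈ (Psub : Subgroup (GL (Fin 2) F)) := Csub_le_Psub J0_mem_Csub

theorem sc_mem_Csub (l : Fˣ) (h : ∃ k : ℕ, l ^ (2 ^ k) = 1) :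
    (sc l : GL (Fin 2) F) ∈ (Csub : Subgroup (GL (Fin 2) F)) := by
  refine ⟨⟨(l : F), 0, ?_⟩, ?_⟩
  · rw [sc_val, smul_one_eq_eM]
  · obtain ⟨k, hk⟩ := h
    refine ⟨k, ?_⟩
    have h1 : (sc l : GL (Fin 2) F) ^ (2 ^ k) = scHom (Fin 2) F (l ^ (2 ^ k)) := by
      rw [map_pow, scHom_apply]
    rw [h1, hk, map_one]

end Cfsg.Agent.Helper45.Pron
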